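import Groth.Agent.Flat2G.FibreDegreeB

/-!
# Additivity of the rank of a finite flat morphism over two complementary opens of the source
-/

set_option autoImplicit false
universe u
open CategoryTheory CategoryTheory.Limits AlgebraicGeometry Opposite TopologicalSpace

namespace K279.FinrankAdd

open Groth.Agent.Flat2G.FibreDegreeA Groth.Agent.Flat2G.FibreDegreeB

variable {Z T : Scheme.{u}} (q : Z ⟶ T)

theorem finrank_add [Flat q] [IsFinite q] (V W : Z.Opens) (h1 : V ⊓ W = ⊥) (h2 : V ⊔ W = ⊤)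
    [IsFinite (V.ι ≫ q)] [IsFinite (W.ι ≫ q)] (t : T) :
    q.finrank t = (V.ι ≫ q).finrank t + (W.ι ≫ q).finrank t := by
  obtain ⟨K, _, γ, p, rfl⟩ := exists_field_point t
  have sq := IsPullback.of_hasPullback q γ
  rw [← finrank_preimage sq V p, ← finrank_preimage sq W p, ← Scheme.Hom.finrank_of_isPullback _ _ _ _ sq p]
  have i1 := isFinite_preimage sq V
  have i2 := isFinite_preimage sq W
  have h3 : (pullback.fst q γ ⁻¹ᵁ V) ⊓ (pullback.fst q γ ⁻¹ᵁ W) = ⊥ := by
    rw [← Scheme.Hom.preimage_inf, h1, Scheme.Hom.preimage_bot]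
  have h4 : (pullback.fst q γ ⁻¹ᵁ V) ⊔ (pullback.fst q γ ⁻¹ᵁ W) = ⊤ := by
    rw [← Scheme.Hom.preimage_sup, h2, Scheme.Hom.preimage_top]
  have h5 := rkS_sup (pullback.snd q γ) h3
  rw [h4, rkS_top_eq_finrank _ p, rkS_eq_finrank _ _ p, rkS_eq_finrank _ _ p] at h5
  exact_mod_cast h5

end K279.FinrankAdd
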