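import Groth.Agent.Fga.Compare
import Groth.Agent.CohqA.PullbackQCoh

/-!
# Splitting of modules over two complementary opens
-/

set_option autoImplicit false
universe u
open CategoryTheory CategoryTheory.Limits AlgebraicGeometry Opposite TopologicalSpace

namespace K279.OpenSplit

open Groth.Agent Groth.Agent.Fga.Compare

variable {X : Scheme.{u}}

theorem subsingleton_sec_bot (M : X.Modules) {U : X.Opens} (h : U = ⊥) : Subsingleton Γ(M, U) :=
  CohqB.DevSupport.subsingleton_sections_of_support M U fun x hx => by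
    rw [h] at hx
    exact hx.elim

theorem biprod_app_bijective {M F G : X.Modules} (a : M ⟶ F) (b : M ⟶ G) (U : X.Opens)
    (ha : Function.Bijective (a.app U)) (hG : Subsingleton Γ(G, U)) :
    Function.Bijective ((biprod.lift a b).app U) := by
  have e0 : ∀ m : Γ(M, U), (biprod.fst : F ⊞ G ⟶ F).app U ((biprod.lift a b).app U m) = a.app U m := fun m =>
    congr(($(biprod.lift_fst a b)).app U m)
  constructor
  · intro x y hxy
    apply ha.1
    rw [← e0, ← e0, hxy]
  · intro t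
    obtain ⟨m, hm⟩ := ha.2 ((biprod.fst : F ⊞ G ⟶ F).app U t)
    refine ⟨m, ?_⟩
    have h3 : ∀ s : Γ(F ⊞ G, U), s = (biprod.inl : F ⟶ F ⊞ G).app U ((biprod.fst : F ⊞ G ⟶ F).app U s) +
        (biprod.inr : G ⟶ F ⊞ G).app U ((biprod.snd : F ⊞ G ⟶ G).app U s) := fun s =>
      (congr(($(biprod.total (X := F) (Y := G))).app U s)).symm
    rw [h3 t, h3 ((biprod.lift a b).app U m), e0, hm]
    congr 1
    exact congrArg _ (Subsingleton.elim _ _)

theorem biprod_app_bijective' {M F G : X.Modules} (a : M ⟶ F) (b : M ⟶ G) (U : X.Opens)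
    (hb : Function.Bijective (b.app U)) (hF : Subsingleton Γ(F, U)) :
    Function.Bijective ((biprod.lift a b).app U) := by
  have e0 : ∀ m : Γ(M, U), (biprod.snd : F ⊞ G ⟶ G).app U ((biprod.lift a b).app U m) = b.app U m := fun m =>
    congr(($(biprod.lift_snd a b)).app U m)
  constructor
  · intro x y hxy
    apply hb.1
    rw [← e0, ← e0, hxy]
  · intro t
    obtain ⟨m, hm⟩ := hb.2 ((biprod.snd : F ⊞ G ⟶ G).app U t)
    refine ⟨m, ?_⟩
    have h3 : ∀ s : Γ(F ⊞ G, U), s = (biprod.inl : F ⟶ F ⊞ G).app U ((biprod.fst : F ⊞ G ⟶ F).app U s) +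
        (biprod.inr : G ⟶ F ⊞ G).app U ((biprod.snd : F ⊞ G ⟶ G).app U s) := fun s =>
      (congr(($(biprod.total (X := F) (Y := G))).app U s)).symm
    rw [h3 t, h3 ((biprod.lift a b).app U m), e0, hm]
    congr 1
    exact congrArg _ (Subsingleton.elim _ _)

/-- a module is the sum of its parts over two complementary opens -/
theorem nonempty_split (M : X.Modules) (V W : X.Opens) (h1 : V ⊓ W = ⊥) (h2 : V ⊔ W = ⊤) :
    Nonempty (M ≅ Ega2.Tens.cut M V ⊞ Ega2.Tens.cut M W) := by
  let φ : M ⟶ Ega2.Tens.cut M V ⊞ Ega2.Tens.cut M W := biprod.lift (toCut M V) (toCut M W)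
  have hφ : IsIso φ := by
    refine CohqA.PullbackQCoh.isIso_of_bijective_basis φ
      (ι := {U : X.Opens // U ≤ V ∨ U ≤ W}) Subtype.val ?_ ?_
    · rw [Opens.isBasis_iff_nbhd]
      intro U x hx
      have hx' : x ∈ V ⊔ W := by rw [h2]; trivial
      rcases hx' with hV | hW
      · exact ⟨U ⊓ V, ⟨⟨U ⊓ V, Or.inl inf_le_right⟩, rfl⟩, ⟨hx, hV⟩, inf_le_left⟩
      · exact ⟨U ⊓ W, ⟨⟨U ⊓ W, Or.inr inf_le_right⟩, rfl⟩, ⟨hx, hW⟩, inf_le_left⟩
    · rintro ⟨U, hU | hU⟩
      · refine biprod_app_bijective _ _ U (toCut_bijective M V U hU) ?_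
        refine subsingleton_sec_bot M (U := Ega2.Tens.ip W U) ?_
        rw [← le_bot_iff, ← h1]
        exact le_inf ((Ega2.Tens.ip_le W U).trans hU) (Ega2.Tens.ip_le' W U)
      · refine biprod_app_bijective' _ _ U (toCut_bijective M W U hU) ?_
        refine subsingleton_sec_bot M (U := Ega2.Tens.ip V U) ?_
        rw [← le_bot_iff, ← h1]
        exact le_inf (Ega2.Tens.ip_le' V U) ((Ega2.Tens.ip_le V U).trans hU)
  exact ⟨asIso φ⟩

end K279.OpenSplit
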