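import Groth.Agent.FGA.K279.PushPull
import Groth.Agent.FGA.K279.OpenSplit
import Groth.Agent.FGA.K279.FinrankAdd
import Groth.Agent.Fga.HodgePush
import Groth.Agent.CohqA.AffineBaseChange
import Groth.Agent.PerfB.FlatPull
import Groth.Agent.FormalA.PullbackQC
import Groth.Agent.FormalA.Support
import Groth.Agent.CurvesB.SubEuler
import Groth.Agent.CohqB.R1Supp
import Groth.Agent.S1524

/-!
# Euler characteristics and finite étale covers

`euler_pullback`: for `φ : E ⟶ X` finite étale of constant degree `d`, `X` proper over a field `k` and `F`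
coherent on `X`, `χ(E, φ^* F) = d χ(X, F)`.
-/

set_option autoImplicit false
universe u
open CategoryTheory CategoryTheory.Limits AlgebraicGeometry Opposite TopologicalSpace

namespace K279.EtCover

open Groth.Agent K279.RankDev

variable (k : Type u) [Field k]

/-- the Euler characteristic with explicit structure map -/
noncomputable def eu {X : Scheme.{u}} (s : X ⟶ Spec (CommRingCat.of k)) (F : X.Modules) : ℤ :=
  letI : X.Over (Spec (CommRingCat.of k)) := ⟨s⟩
  Curv2.euler k X F

variable {k}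

theorem eu_congr {X : Scheme.{u}} (s : X ⟶ Spec (CommRingCat.of k)) {F G : X.Modules} (e : F ≅ G) :
    eu k s F = eu k s G :=
  letI : X.Over (Spec (CommRingCat.of k)) := ⟨s⟩
  Fga.HodgePush.euler_congr k X e

theorem eu_iso {X Y : Scheme.{u}} (e : X ⟶ Y) [IsIso e] (s : Y ⟶ Spec (CommRingCat.of k)) {F : Y.Modules}
    (hF : Coh.IsQCoh F) : eu k (e ≫ s) ((Scheme.Modules.pullback e).obj F) = eu k s F :=
  letI : X.Over (Spec (CommRingCat.of k)) := ⟨e ≫ s⟩
  letI : Y.Over (Spec (CommRingCat.of k)) := ⟨s⟩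
  CurvesB.SubEuler.euler_pullback e k rfl F hF

theorem eu_isAdd {X : Scheme.{u}} (s : X ⟶ Spec (CommRingCat.of k)) [IsProper s] :
    Fga.ChiBasic.IsAdd (eu k s) := fun S hS h₁ h₂ h₃ =>
  letI : X.Over (Spec (CommRingCat.of k)) := ⟨s⟩
  haveI : IsProper (X ↘ Spec (CommRingCat.of k)) := ‹IsProper s›
  S1524.result k X S hS h₁ h₂ h₃

theorem eu_push {E X : Scheme.{u}} (g : E ⟶ X) [IsAffineHom g] [IsProper g] (s : X ⟶ Spec (CommRingCat.of k)) [IsProper s]
    {G : E.Modules} (hG : Coh.IsCoh G) : eu k (g ≫ s) G = eu k s ((Scheme.Modules.pushforward g).obj G) :=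
  letI : E.Over (Spec (CommRingCat.of k)) := ⟨g ≫ s⟩
  letI : X.Over (Spec (CommRingCat.of k)) := ⟨s⟩
  haveI : IsProper (X ↘ Spec (CommRingCat.of k)) := ‹IsProper s›
  haveI : IsProper (E ↘ Spec (CommRingCat.of k)) := inferInstanceAs (IsProper (g ≫ s))
  Fga.HodgePush.euler_push k X E g rfl G hG (Fga.HodgePush.acyc_of_isAffineHom g hG.1)

theorem isNoetherian {X : Scheme.{u}} (s : X ⟶ Spec (CommRingCat.of k)) [IsProper s] : IsNoetherian X := by
  have h1 : IsLocallyNoetherian X := LocallyOfFiniteType.isLocallyNoetherian s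
  have h2 : CompactSpace X := QuasiCompact.compactSpace_of_compactSpace s
  exact {}

theorem isCoh_pullback {E X : Scheme.{u}} (g : E ⟶ X) {F : X.Modules} (hF : Coh.IsCoh F) :
    Coh.IsCoh ((Scheme.Modules.pullback g).obj F) := FormalA.PullbackQC.isCoh_pullback g F hF

theorem eu_isZero {X : Scheme.{u}} (s : X ⟶ Spec (CommRingCat.of k)) [IsProper s] {M : X.Modules} (h : IsZero M) :
    eu k s M = 0 := Fga.ChiBasic.chi_isZero (eu_isAdd s) h

theorem eu_biprod {X : Scheme.{u}} (s : X ⟶ Spec (CommRingCat.of k)) [IsProper s] {F G : X.Modules}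
    (hF : Coh.IsCoh F) (hG : Coh.IsCoh G) : eu k s (F ⊞ G) = eu k s F + eu k s G := by
  have hN := isNoetherian s
  have h := eu_isAdd (k := k) s _ (ShortComplex.Splitting.ofHasBinaryBiproduct F G).shortExact hF
    (Sga67.CohBasic.isCoh_biprod hF hG) hG
  exact h

theorem eu_cut {W : Scheme.{u}} (s : W ⟶ Spec (CommRingCat.of k)) [IsProper s] (U : W.Opens)
    [IsClosedImmersion U.ι] {M : W.Modules} (hM : Coh.IsCoh M) :
    Coh.IsCoh (Ega2.Tens.cut M U) ∧
      eu k s (Ega2.Tens.cut M U) = eu k (U.ι ≫ s) ((Scheme.Modules.pullback U.ι).obj M) := by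
  have hN := isNoetherian s
  let e' : (Scheme.Modules.pullback U.ι).obj M ≅ M.restrict U.ι :=
    ((Scheme.Modules.restrictFunctorIsoPullback U.ι).app M).symm
  have hc : Coh.IsCoh ((Scheme.Modules.pullback U.ι).obj M) := isCoh_pullback U.ι hM
  have h3 := eu_push (k := k) U.ι s hc
  have hc' : Coh.IsCoh ((Scheme.Modules.pushforward U.ι).obj ((Scheme.Modules.pullback U.ι).obj M)) :=
    Fga.HodgePush.isCoh_push U.ι hc
  let e'' : (Scheme.Modules.pushforward U.ι).obj ((Scheme.Modules.pullback U.ι).obj M) ≅ Ega2.Tens.cut M U :=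
    (Scheme.Modules.pushforward U.ι).mapIso e'
  exact ⟨Sga67.CohBasic.isCoh_of_iso e'' hc', (eu_congr s e'').symm.trans h3.symm⟩

/-- Euler characteristics over two complementary opens -/
theorem eu_split {W : Scheme.{u}} (s : W ⟶ Spec (CommRingCat.of k)) [IsProper s] (V V' : W.Opens)
    (h1 : V ⊓ V' = ⊥) (h2 : V ⊔ V' = ⊤) [IsClosedImmersion V.ι] [IsClosedImmersion V'.ι]
    {M : W.Modules} (hM : Coh.IsCoh M) :
    eu k s M = eu k (V.ι ≫ s) ((Scheme.Modules.pullback V.ι).obj M) +
      eu k (V'.ι ≫ s) ((Scheme.Modules.pullback V'.ι).obj M) := by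
  obtain ⟨e⟩ := OpenSplit.nonempty_split M V V' h1 h2
  obtain ⟨c1, e1⟩ := eu_cut s V hM
  obtain ⟨c2, e2⟩ := eu_cut s V' hM
  have e3 := eu_congr (k := k) s e
  have e4 := eu_biprod (k := k) s c1 c2
  exact e3.trans (e4.trans (congrArg₂ (· + ·) e1 e2))

/-- the dévissage step: it is enough to treat direct images -/
theorem of_push {E X : Scheme.{u}} (φ : E ⟶ X) [IsFinite φ] [Flat φ] (s : X ⟶ Spec (CommRingCat.of k))
    [IsProper s] (d : ℕ) (hd : ∀ x, φ.finrank x = d) (hd0 : d ≠ 0)
    (H : ∀ N : E.Modules, Coh.IsCoh N → eu k (φ ≫ s) ((Scheme.Modules.pullback φ).obj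
      ((Scheme.Modules.pushforward φ).obj N)) = d * eu k s ((Scheme.Modules.pushforward φ).obj N))
    (F : X.Modules) (hF : Coh.IsCoh F) :
    eu k (φ ≫ s) ((Scheme.Modules.pullback φ).obj F) = d * eu k s F := by
  have hN := isNoetherian s
  have hNE := isNoetherian (φ ≫ s)
  let δ : X.Modules → ℤ := fun F => eu k (φ ≫ s) ((Scheme.Modules.pullback φ).obj F) - d * eu k s F
  have hδ : Fga.ChiBasic.IsAdd δ := by
    intro S hS c1 c2 c3
    have hS' : (S.map (Scheme.Modules.pullback φ)).ShortExact := by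
      have : PreservesFiniteLimits (Scheme.Modules.pullback φ) := inferInstance
      exact hS.map_of_exact _
    have e1 := eu_isAdd (k := k) (φ ≫ s) _ hS' (isCoh_pullback φ c1) (isCoh_pullback φ c2) (isCoh_pullback φ c3)
    have e2 := eu_isAdd (k := k) s S hS c1 c2 c3
    simp only [ShortComplex.map_X₁, ShortComplex.map_X₂, ShortComplex.map_X₃] at e1
    simp only [δ]
    rw [e1, e2]
    ring
  have := RankDev.eq_zero hδ (fun F hF x _ => by
    obtain ⟨U, hxU, hU⟩ := PushPull.exists_local_iso φ hF x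
    rw [hd] at hU
    have hc := isCoh_pullback φ hF
    refine ⟨d, _, U, hd0, hxU, Fga.HodgePush.isCoh_push φ hc, ?_, ?_, hU⟩
    · refine CohqB.R1Supp.support_push_subset φ _ _ (Ega3B.Devissage.isClosed_support hF) ?_
      exact FormalA.Support.support_pullback_subset φ F hF.2
    · simp only [δ]
      rw [H _ hc, sub_self]) F hF
  simp only [δ] at this
  linarith

/-- **Multiplicativity of Euler characteristics in finite étale covers.** -/
theorem main (d : ℕ) : ∀ {E X : Scheme.{u}} (φ : E ⟶ X) [IsFinite φ] [Etale φ]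
    (s : X ⟶ Spec (CommRingCat.of k)) [IsProper s] (_ : ∀ x, φ.finrank x = d)
    (F : X.Modules) (_ : Coh.IsCoh F),
    eu k (φ ≫ s) ((Scheme.Modules.pullback φ).obj F) = d * eu k s F := by
  induction d with
  | zero =>
    intro E X φ _ _ s _ hd F hF
    have : IsEmpty E := by
      by_contra h
      rw [not_isEmpty_iff] at h
      obtain ⟨e⟩ := h
      have := φ.one_le_finrank_map e
      rw [hd] at this
      omega
    have hz : IsZero ((Scheme.Modules.pullback φ).obj F) := by
      refine CohqB.DevSupport.isZero_of_support_eq_empty ?_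
      exact Set.eq_empty_of_isEmpty _
    rw [eu_isZero _ hz]
    simp
  | succ d ih =>
    intro E X φ _ _ s _ hd F hF
    refine of_push φ s (d + 1) hd (Nat.succ_ne_zero d) ?_ F hF
    intro N hN
    -- the fibre product
    let W := pullback φ φ
    let p₁ : W ⟶ E := pullback.fst φ φ
    let p₂ : W ⟶ E := pullback.snd φ φ
    have sq : IsPullback p₁ p₂ φ φ := IsPullback.of_hasPullback φ φ
    have hNq : Coh.IsQCoh N := hN.1
    obtain ⟨bc⟩ := CohqA.AffineBaseChange.nonempty_iso sq N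
    have hcN : Coh.IsCoh ((Scheme.Modules.pullback p₁).obj N) := isCoh_pullback p₁ hN
    rw [eu_congr _ bc, ← eu_push p₂ (φ ≫ s) hcN]
    let δ : E ⟶ W := pullback.diagonal φ
    have hδo : IsOpenImmersion δ := inferInstance
    have hδc : IsClosedImmersion δ := inferInstance
    have hδ1 : δ ≫ p₁ = 𝟙 E := pullback.diagonal_fst φ
    have hδ2 : δ ≫ p₂ = 𝟙 E := pullback.diagonal_snd φ
    let V : W.Opens := δ.opensRange
    have hVc : IsClosed (V : Set W) := δ.isClosedEmbedding.isClosed_range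
    let V' : W.Opens := ⟨(V : Set W)ᶜ, hVc.isOpen_compl⟩
    have h1 : V ⊓ V' = ⊥ := by
      ext x
      simp [V']
    have h2 : V ⊔ V' = ⊤ := by
      ext x
      simp [V']
    have i1 : IsClosedImmersion V.ι := IsClosedImmersion.of_isPreimmersion V.ι (by
      rw [Scheme.Opens.range_ι]; exact hVc)
    have i2 : IsClosedImmersion V'.ι := IsClosedImmersion.of_isPreimmersion V'.ι (by
      rw [Scheme.Opens.range_ι]; exact V.isOpen.isClosed_compl)
    let e : E ≅ V := δ.isoOpensRange
    have he : e.hom ≫ V.ι = δ := δ.isoOpensRange_hom_ι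
    have f1 : e.hom ≫ V.ι ≫ p₁ = 𝟙 E := by rw [← Category.assoc, he, hδ1]
    have hVp : V.ι ≫ p₁ = e.inv := by
      rw [← cancel_epi e.hom, f1, e.hom_inv_id]
    have i3 : IsIso (V.ι ≫ p₁) := by rw [hVp]; infer_instance
    have hfr : ∀ t, (V'.ι ≫ p₁).finrank t = d := by
      intro t
      have h3 := FinrankAdd.finrank_add p₁ V V' h1 h2 t
      rw [Scheme.Hom.finrank_pullback_fst, hd, Scheme.Hom.finrank_eq_one_of_isIso (V.ι ≫ p₁)] at h3
      simp only [Pi.one_apply] at h3
      omega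
    rw [eu_split (k := k) (p₂ ≫ φ ≫ s) V V' h1 h2 hcN]
    have a1 : eu k (V.ι ≫ p₂ ≫ φ ≫ s) ((Scheme.Modules.pullback V.ι).obj ((Scheme.Modules.pullback p₁).obj N)) =
        eu k (φ ≫ s) N := by
      rw [← eu_iso e.hom _ (isCoh_pullback V.ι hcN).1]
      have h4 : e.hom ≫ V.ι ≫ p₂ ≫ φ ≫ s = φ ≫ s := by
        rw [← Category.assoc, he, ← Category.assoc, hδ2, Category.id_comp]
      rw [h4]
      refine eu_congr _ ?_
      refine (Scheme.Modules.pullback e.hom).mapIso ((Scheme.Modules.pullbackComp V.ι p₁).app N) ≪≫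
        (Scheme.Modules.pullbackComp e.hom (V.ι ≫ p₁)).app N ≪≫
        (Scheme.Modules.pullbackCongr f1).app N ≪≫ (Scheme.Modules.pullbackId E).app N
    have a2 : eu k (V'.ι ≫ p₂ ≫ φ ≫ s) ((Scheme.Modules.pullback V'.ι).obj ((Scheme.Modules.pullback p₁).obj N)) =
        d * eu k (φ ≫ s) N := by
      rw [← ih (V'.ι ≫ p₁) (φ ≫ s) hfr N hN]
      have h5 : V'.ι ≫ p₂ ≫ φ ≫ s = (V'.ι ≫ p₁) ≫ φ ≫ s := by
        rw [Category.assoc, ← sq.w_assoc]
      rw [h5]
      exact eu_congr _ ((Scheme.Modules.pullbackComp V'.ι p₁).app N)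
    rw [a1, a2, eu_push φ s hN]
    push_cast
    ring

end K279.EtCover
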