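import Groth.Agent.Ega3B.AcycNbhdFree
import Mathlib.AlgebraicGeometry.Morphisms.FlatRank
import Mathlib.AlgebraicGeometry.Noetherian

/-!
# Finite flat morphisms have local bases

* `exists_affine_basis`: for `φ : E ⟶ X` finite flat, `X` locally Noetherian, every `x` has an affine open
  neighbourhood `U` such that `Γ(E, φ⁻¹ U)` has a basis with `φ.finrank x` elements over `Γ(X, U)`.
-/

set_option autoImplicit false
universe u
open CategoryTheory CategoryTheory.Limits AlgebraicGeometry TensorProduct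

namespace K279.FFBasis

variable {E X : Scheme.{u}} (φ : E ⟶ X)

/-- the rank over an affine open over which the morphism is free -/
theorem finrank_eq_of_basis [IsFinite φ] [Flat φ] {V : X.Opens} (hV : IsAffineOpen V) {r : ℕ}
    (b : letI := (φ.app V).hom.toAlgebra; Module.Basis (Fin r) Γ(X, V) Γ(E, φ ⁻¹ᵁ V)) (y : X) (hy : y ∈ V) :
    φ.finrank y = r := by
  let _ := (φ.app V).hom.toAlgebra
  have hU : IsAffineOpen (φ ⁻¹ᵁ V) := hV.preimage φ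
  have hfin : (φ.app V).hom.Finite := φ.finite_app V hV
  have hflat : (φ.app V).hom.Flat := by
    have := φ.flat_appLE hV hU le_rfl
    rwa [Scheme.Hom.appLE_eq_app] at this
  have : Module.Finite Γ(X, V) Γ(E, φ ⁻¹ᵁ V) := hfin
  have : Module.Flat Γ(X, V) Γ(E, φ ⁻¹ᵁ V) := hflat
  obtain ⟨p, rfl⟩ : y ∈ Set.range hV.fromSpec := by
    rw [hV.range_fromSpec]
    exact hy
  have hpb : IsPullback hU.fromSpec (Spec.map (φ.app V)) φ hV.fromSpec := by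
    refine (IsOpenImmersion.isPullback _ hU.fromSpec hV.fromSpec φ ?_ ?_).flip
    · have := IsAffineOpen.SpecMap_appLE_fromSpec φ hV hU le_rfl
      rw [Scheme.Hom.appLE_eq_app] at this
      exact this.symm
    · rw [hV.opensRange_fromSpec, hU.opensRange_fromSpec]
  rw [← Scheme.Hom.finrank_of_isPullback _ _ _ _ hpb p]
  refine (Scheme.Hom.finrank_SpecMap_algebraMap Γ(X, V) Γ(E, φ ⁻¹ᵁ V) p).trans ?_
  have : Module.Free Γ(X, V) Γ(E, φ ⁻¹ᵁ V) := Module.Free.of_basis b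
  have : Nontrivial Γ(X, V) := by
    have : Nonempty (PrimeSpectrum Γ(X, V)) := ⟨p⟩
    exact PrimeSpectrum.nonempty_iff_nontrivial.1 this
  rw [Module.rankAtStalk_eq_finrank_of_free, Module.finrank_eq_card_basis b, Fintype.card_fin]
  rfl

theorem exists_affine_basis [IsLocallyNoetherian X] [IsFinite φ] [Flat φ] (x : X) :
    ∃ U : X.Opens, IsAffineOpen U ∧ x ∈ U ∧
      letI := (φ.app U).hom.toAlgebra
      Nonempty (Module.Basis (Fin (φ.finrank x)) Γ(X, U) Γ(E, φ ⁻¹ᵁ U)) := by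
  obtain ⟨V, hV, hxV, -⟩ := exists_isAffineOpen_mem_and_subset (x := x) (U := ⊤) trivial
  have hU : IsAffineOpen (φ ⁻¹ᵁ V) := hV.preimage φ
  let _ := (φ.app V).hom.toAlgebra
  have hfin : (φ.app V).hom.Finite := φ.finite_app V hV
  have hflat : (φ.app V).hom.Flat := by
    have := φ.flat_appLE hV hU le_rfl
    rwa [Scheme.Hom.appLE_eq_app] at this
  have : Module.Finite Γ(X, V) Γ(E, φ ⁻¹ᵁ V) := hfin
  have : Module.Flat Γ(X, V) Γ(E, φ ⁻¹ᵁ V) := hflat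
  have : IsNoetherianRing Γ(X, V) := IsLocallyNoetherian.component_noetherian ⟨V, hV⟩
  obtain ⟨g, hg, r, hr⟩ := Groth.Agent.Ega3B.AcycNbhdFree.exists_basis (A := Γ(X, V)) Γ(E, φ ⁻¹ᵁ V)
    (hV.primeIdealOf ⟨x, hxV⟩).asIdeal
  have hxg : x ∈ X.basicOpen g := by
    have h1 : hV.primeIdealOf ⟨x, hxV⟩ ∈ hV.fromSpec ⁻¹ᵁ X.basicOpen g := by
      rw [hV.fromSpec_preimage_basicOpen]
      exact hg
    have h2 : hV.fromSpec (hV.primeIdealOf ⟨x, hxV⟩) ∈ X.basicOpen g := h1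
    rwa [hV.fromSpec_primeIdealOf] at h2
  have hgV : IsAffineOpen (X.basicOpen g) := hV.basicOpen g
  have hgU : φ ⁻¹ᵁ (X.basicOpen g) = E.basicOpen ((φ.app V).hom g) :=
    Scheme.preimage_basicOpen φ g
  have hle : φ ⁻¹ᵁ (X.basicOpen g) ≤ φ ⁻¹ᵁ V := φ.preimage_mono (X.basicOpen_le g)
  let i1 : Algebra Γ(X, V) Γ(X, X.basicOpen g) := (X.presheaf.map (homOfLE (X.basicOpen_le g)).op).hom.toAlgebra
  let i3 : Algebra Γ(X, X.basicOpen g) Γ(E, φ ⁻¹ᵁ (X.basicOpen g)) := (φ.app (X.basicOpen g)).hom.toAlgebra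
  let i4 : Algebra Γ(E, φ ⁻¹ᵁ V) Γ(E, φ ⁻¹ᵁ (X.basicOpen g)) := (E.presheaf.map (homOfLE hle).op).hom.toAlgebra
  let i5 : Algebra Γ(X, V) Γ(E, φ ⁻¹ᵁ (X.basicOpen g)) :=
    ((algebraMap Γ(E, φ ⁻¹ᵁ V) Γ(E, φ ⁻¹ᵁ (X.basicOpen g))).comp (algebraMap Γ(X, V) Γ(E, φ ⁻¹ᵁ V))).toAlgebra
  have t1 : IsScalarTower Γ(X, V) Γ(E, φ ⁻¹ᵁ V) Γ(E, φ ⁻¹ᵁ (X.basicOpen g)) := .of_algebraMap_eq' rfl
  have t2 : IsScalarTower Γ(X, V) Γ(X, X.basicOpen g) Γ(E, φ ⁻¹ᵁ (X.basicOpen g)) := .of_algebraMap_eq' (by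
    have := φ.naturality (homOfLE (X.basicOpen_le g)).op
    exact congr(($this).hom).symm)
  have hl1 : IsLocalization.Away g Γ(X, X.basicOpen g) := hV.isLocalization_basicOpen g
  have hl2 : IsLocalization.Away ((φ.app V).hom g) Γ(E, φ ⁻¹ᵁ (X.basicOpen g)) :=
    hU.isLocalization_of_eq_basicOpen _ (homOfLE hle) hgU
  have hl3 : IsLocalization (Algebra.algebraMapSubmonoid Γ(E, φ ⁻¹ᵁ V) (Submonoid.powers g))
      Γ(E, φ ⁻¹ᵁ (X.basicOpen g)) := by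
    rw [Algebra.algebraMapSubmonoid_powers]
    exact hl2
  have hpo : Algebra.IsPushout Γ(X, V) Γ(X, X.basicOpen g) Γ(E, φ ⁻¹ᵁ V) Γ(E, φ ⁻¹ᵁ (X.basicOpen g)) :=
    (Algebra.isPushout_of_isLocalization (Submonoid.powers g) Γ(X, X.basicOpen g) Γ(E, φ ⁻¹ᵁ V)
      Γ(E, φ ⁻¹ᵁ (X.basicOpen g))).symm
  obtain ⟨b⟩ := hr Γ(X, X.basicOpen g) (IsLocalization.Away.algebraMap_isUnit g)
  let b' : Module.Basis (Fin r) Γ(X, X.basicOpen g) Γ(E, φ ⁻¹ᵁ (X.basicOpen g)) := b.map hpo.out.equiv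
  have hrk : φ.finrank x = r := finrank_eq_of_basis φ hgV b' x hxg
  refine ⟨X.basicOpen g, hgV, hxg, ?_⟩
  rw [hrk]
  exact ⟨b'⟩

end K279.FFBasis
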