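import Groth.Agent.Fga.Compare
import Groth.Agent.Fga.ChiBasic
import Groth.Agent.CohqB.DevMaster

/-!
# Dévissage by local comparison

* `exists_compare_iso`: coherent modules `F`, `H` on a Noetherian scheme which are isomorphic over an open
  `U` are connected by maps `G ⟶ F`, `G ⟶ H` whose kernels and cokernels are supported outside `U`.
* `pw F n`: the `n`-th power of `F`.
* `eq_zero`: an additive integer valued function `δ` on coherent modules vanishes if for every `F` and
  every point `x` a power `F^n`, `n ≠ 0`, is isomorphic near `x` to some `N` with `Supp N ⊆ Supp F`, `δ N = 0`.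
-/

set_option autoImplicit false
universe u
open CategoryTheory CategoryTheory.Limits AlgebraicGeometry Opposite TopologicalSpace

namespace K279.RankDev

open Groth.Agent Groth.Agent.Fga.Compare Groth.Agent.Fga.ChiBasic

variable {X : Scheme.{u}}

/-- restriction of sections followed by an isomorphism -/
noncomputable def toCutIso {F H : X.Modules} (U : X.Opens) (θ : F.restrict U.ι ≅ H.restrict U.ι) :
    F ⟶ Ega2.Tens.cut H U :=
  toCut F U ≫ (Scheme.Modules.pushforward U.ι).map θ.hom

theorem toCutIso_bijective {F H : X.Modules} (U : X.Opens) (θ : F.restrict U.ι ≅ H.restrict U.ι)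
    (V : X.Opens) (hV : V ≤ U) : Function.Bijective ((toCutIso U θ).app V) := by
  have h1 := toCut_bijective F U V hV
  have h2 : Function.Bijective (((Scheme.Modules.pushforward U.ι).map θ.hom).app V) := by
    have : IsIso ((Scheme.Modules.pushforward U.ι).map θ.hom) := inferInstance
    exact Function.bijective_iff_has_inverse.2 ⟨(inv ((Scheme.Modules.pushforward U.ι).map θ.hom)).app V,
      fun t => congr(($(IsIso.hom_inv_id ((Scheme.Modules.pushforward U.ι).map θ.hom))).app V t),
      fun t => congr(($(IsIso.inv_hom_id ((Scheme.Modules.pushforward U.ι).map θ.hom))).app V t)⟩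
  exact h2.comp h1

/-- The comparison of two coherent modules which agree over the open `U`. -/
theorem exists_compare_iso [IsNoetherian X] {F H : X.Modules} (hF : Coh.IsCoh F)
    (hH : Coh.IsCoh H) (U : X.Opens)
    (θ : F.restrict U.ι ≅ H.restrict U.ι) :
    ∃ (G : X.Modules) (p : G ⟶ F) (q : G ⟶ H), Coh.IsCoh G ∧
      (∀ y ∈ U, y ∉ CohB1.support (kernel p)) ∧ (∀ y ∈ U, y ∉ CohB1.support (cokernel p)) ∧
      (∀ y ∈ U, y ∉ CohB1.support (kernel q)) ∧ (∀ y ∈ U, y ∉ CohB1.support (cokernel q)) ∧
      CohB1.support G ⊆ CohB1.support F ∪ CohB1.support H := by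
  have hJ : Coh.IsQCoh (Ega2.Tens.cut H U) :=
    Sga67.CohBasic.isQCoh_push U.ι (PerfA.QCohSerre.isQCoh_restrict _ hH.1)
  let α := toCutIso U θ
  let β := toCut H U
  have hα := toCutIso_bijective U θ
  have hβ := toCut_bijective H U
  have hG : Coh.IsCoh (G α β) :=
    Sga67.CohBasic.isCoh_kernel _ (Sga67.CohBasic.isCoh_biprod hF hH) hJ
  refine ⟨G α β, p α β, q α β, hG, ?_, ?_, ?_, ?_, ?_⟩
  · exact not_mem_support_kernel U _ (p_inj α β hβ)
  · exact not_mem_support_cokernel U _ (p_surj α β hβ)
  · exact not_mem_support_kernel U _ (q_inj α β hα)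
  · exact not_mem_support_cokernel U _ (q_surj α β hα)
  · refine (CohqB.DevSupport.support_subset_of_mono (i α β)).trans ?_
    have h := CohqB.DevSupport.support_shortExact
      (ShortComplex.Splitting.ofHasBinaryBiproduct F H).shortExact
    exact h.le

/-- the `n`-th power of a module -/
noncomputable def pw (F : X.Modules) : ℕ → X.Modules
  | 0 => cokernel (𝟙 F)
  | n + 1 => F ⊞ pw F n

theorem isCoh_pw [IsLocallyNoetherian X] {F : X.Modules} (hF : Coh.IsCoh F) (n : ℕ) :
    Coh.IsCoh (pw F n) := by
  induction n with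
  | zero => exact Sga67.CohBasic.isCoh_of_isZero (isZero_cokernel_of_epi (𝟙 F))
  | succ n ih => exact Sga67.CohBasic.isCoh_biprod hF ih

theorem support_pw_subset (F : X.Modules) (n : ℕ) : CohB1.support (pw F n) ⊆ CohB1.support F := by
  induction n with
  | zero =>
    rw [show CohB1.support (pw F 0) = ∅ from
      CohqB.DevSupport.support_eq_empty_of_isZero (isZero_cokernel_of_epi (𝟙 F))]
    exact Set.empty_subset _
  | succ n ih =>
    have h := CohqB.DevSupport.support_shortExact
      (ShortComplex.Splitting.ofHasBinaryBiproduct F (pw F n)).shortExact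
    exact h.le.trans (Set.union_subset le_rfl ih)

theorem chi_pw [IsLocallyNoetherian X] {δ : X.Modules → ℤ} (hδ : IsAdd δ) {F : X.Modules}
    (hF : Coh.IsCoh F) (n : ℕ) : δ (pw F n) = n * δ F := by
  induction n with
  | zero =>
    have h : δ (pw F 0) = 0 := chi_isZero hδ (isZero_cokernel_of_epi (𝟙 F))
    simp [h]
  | succ n ih =>
    have h := hδ _ (ShortComplex.Splitting.ofHasBinaryBiproduct F (pw F n)).shortExact hF
      (Sga67.CohBasic.isCoh_biprod hF (isCoh_pw hF n)) (isCoh_pw hF n)
    have h' : δ (pw F (n + 1)) = δ F + δ (pw F n) := h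
    rw [h', ih]
    push_cast
    ring

/-- Vanishing of additive functions by local comparison. -/
theorem eq_zero [IsNoetherian X] {δ : X.Modules → ℤ} (hδ : IsAdd δ)
    (h : ∀ F : X.Modules, Coh.IsCoh F → ∀ x : X, x ∈ CohB1.support F →
      ∃ (n : ℕ) (N : X.Modules) (U : X.Opens), n ≠ 0 ∧ x ∈ U ∧ Coh.IsCoh N ∧
        CohB1.support N ⊆ CohB1.support F ∧ δ N = 0 ∧
        Nonempty ((pw F n).restrict U.ι ≅ N.restrict U.ι))
    (F : X.Modules) (hF : Coh.IsCoh F) : δ F = 0 := by
  have key : ∀ T : Closeds X, ∀ M : X.Modules, Coh.IsCoh M → CohB1.support M ⊆ T → δ M = 0 := by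
    intro T
    induction T using WellFoundedLT.induction with
    | ind T ih =>
      intro M hM hMT
      have ih' : ∀ N : X.Modules, Coh.IsCoh N → CohB1.support N ⊆ T → CohB1.support N ≠ T →
          δ N = 0 := by
        intro N hN hNT hne
        exact ih ⟨CohB1.support N, Ega3B.Devissage.isClosed_support hN⟩ (lt_of_le_of_ne hNT
          (fun h => hne (congrArg (SetLike.coe : Closeds X → Set X) h))) N hN subset_rfl
      rcases (CohB1.support M).eq_empty_or_nonempty with hTe | ⟨x, hx⟩
      · exact chi_isZero hδ (CohqB.DevSupport.isZero_of_support_eq_empty hTe)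
      · obtain ⟨n, N, U, hn, hxU, hN, hNM, hδN, ⟨θ⟩⟩ := h M hM x hx
        by_cases hMT' : CohB1.support M = T
        · have hMn := isCoh_pw hM n
          have hsub : CohB1.support N ⊆ (T : Set X) := hNM.trans hMT
          have hsub' : CohB1.support (pw M n) ⊆ (T : Set X) := (support_pw_subset M n).trans hMT
          obtain ⟨G, p, q, hG, k1, k2, k3, k4, hGs⟩ := exists_compare_iso hMn hN U θ
          have hGT : CohB1.support G ⊆ (T : Set X) := hGs.trans (Set.union_subset hsub' hsub)
          have hxT : x ∈ (T : Set X) := hMT hx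
          have van : ∀ K : X.Modules, Coh.IsCoh K → CohB1.support K ⊆ T →
              (∀ y ∈ U, y ∉ CohB1.support K) → δ K = 0 := fun K hK hKT hKU =>
            ih' K hK hKT fun h => hKU x hxU (h ▸ hxT)
          have e1 := chi_map hδ p hG hMn
          have e2 := chi_map hδ q hG hN
          rw [van (cokernel p) (Sga67.CohBasic.isCoh_cokernel p hG.1 hMn)
            ((CohqB.DevSupport.support_subset_of_epi (cokernel.π p)).trans hsub') k2,
            van (kernel p) (Sga67.CohBasic.isCoh_kernel p hG hMn.1)
            ((CohqB.DevSupport.support_subset_of_mono (kernel.ι p)).trans hGT) k1,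
            chi_pw hδ hM n] at e1
          rw [van (cokernel q) (Sga67.CohBasic.isCoh_cokernel q hG.1 hN)
            ((CohqB.DevSupport.support_subset_of_epi (cokernel.π q)).trans hsub) k4,
            van (kernel q) (Sga67.CohBasic.isCoh_kernel q hG hN.1)
            ((CohqB.DevSupport.support_subset_of_mono (kernel.ι q)).trans hGT) k3, hδN] at e2
          have e3 : (n : ℤ) * δ M = 0 := by linarith
          exact (mul_eq_zero.1 e3).resolve_left (by exact_mod_cast hn)
        · exact ih' M hM hMT hMT'
  exact key ⊤ F hF (fun x _ => trivial)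

end K279.RankDev
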