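import Groth.Agent.FGA.K279.FFBasis
import Groth.Agent.FGA.K279.RankDev
import Groth.Agent.CohqA.PullbackQCoh
import Groth.Agent.CohqB.FinHom
import Groth.Agent.Desc.ModSec2

/-!
# `φ_* φ^* F` is locally a power of `F` for `φ` finite flat

* `secPw`: sections of the power `F^n` over an open;
* `nonempty_iso_restrict`: quasi-coherent modules with isomorphic sections over an affine open `U` have
  isomorphic restrictions to `U`;
* `exists_local_iso`: for `φ : E ⟶ X` finite flat, `X` locally Noetherian, `F` quasi-coherent, every point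
  `x` has a neighbourhood over which `φ_* φ^* F` is isomorphic to `F ^ (φ.finrank x)`.
-/

set_option autoImplicit false
universe u
open CategoryTheory CategoryTheory.Limits AlgebraicGeometry TensorProduct Opposite

namespace K279.PushPull

open Groth.Agent K279.RankDev

variable {X : Scheme.{u}}

/-- sections of a map of modules over an open as a linear map -/
noncomputable def appL {M N : X.Modules} (f : M ⟶ N) (U : X.Opens) : Γ(M, U) →ₗ[Γ(X, U)] Γ(N, U) where
  toFun x := f.app U x
  map_add' := map_add _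
  map_smul' r x := Scheme.Modules.Hom.app_smul f r x

/-- sections of a biproduct -/
noncomputable def secBiprod (F G : X.Modules) (U : X.Opens) :
    Γ(F ⊞ G, U) ≃ₗ[Γ(X, U)] Γ(F, U) × Γ(G, U) :=
  LinearEquiv.ofLinear
    ((appL (biprod.fst : F ⊞ G ⟶ F) U).prod (appL (biprod.snd : F ⊞ G ⟶ G) U))
    ((appL (biprod.inl : F ⟶ F ⊞ G) U).coprod (appL (biprod.inr : G ⟶ F ⊞ G) U))
    (by
      refine LinearMap.ext fun ⟨a, b⟩ => ?_
      have e1 := congr(($(biprod.inl_fst (X := F) (Y := G))).app U a)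
      have e2 := congr(($(biprod.inl_snd (X := F) (Y := G))).app U a)
      have e3 := congr(($(biprod.inr_fst (X := F) (Y := G))).app U b)
      have e4 := congr(($(biprod.inr_snd (X := F) (Y := G))).app U b)
      have e1' : (biprod.fst : F ⊞ G ⟶ F).app U ((biprod.inl : F ⟶ F ⊞ G).app U a) = a := e1
      have e2' : (biprod.snd : F ⊞ G ⟶ G).app U ((biprod.inl : F ⟶ F ⊞ G).app U a) = 0 := e2
      have e3' : (biprod.fst : F ⊞ G ⟶ F).app U ((biprod.inr : G ⟶ F ⊞ G).app U b) = 0 := e3
      have e4' : (biprod.snd : F ⊞ G ⟶ G).app U ((biprod.inr : G ⟶ F ⊞ G).app U b) = b := e4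
      refine Prod.ext ?_ ?_
      · change (biprod.fst : F ⊞ G ⟶ F).app U ((biprod.inl : F ⟶ F ⊞ G).app U a +
          (biprod.inr : G ⟶ F ⊞ G).app U b) = a
        rw [map_add, e1', e3', add_zero]
      · change (biprod.snd : F ⊞ G ⟶ G).app U ((biprod.inl : F ⟶ F ⊞ G).app U a +
          (biprod.inr : G ⟶ F ⊞ G).app U b) = b
        rw [map_add, e2', e4', zero_add])
    (by
      refine LinearMap.ext fun s => ?_
      exact congr(($(biprod.total (X := F) (Y := G))).app U s))

theorem subsingleton_sec {M : X.Modules} (h : IsZero M) (U : X.Opens) : Subsingleton Γ(M, U) := by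
  have key : ∀ k : Γ(M, U), k = 0 := fun k => by
    have h1 : 𝟙 M = 0 := h.eq_of_src _ _
    exact congr(($h1).app U k)
  exact ⟨fun a b => (key a).trans (key b).symm⟩

/-- sections of a power -/
noncomputable def secPw (F : X.Modules) (U : X.Opens) : (n : ℕ) → Γ(pw F n, U) ≃ₗ[Γ(X, U)] (Fin n → Γ(F, U))
  | 0 => by
    have := subsingleton_sec (isZero_cokernel_of_epi (𝟙 F)) U
    have : Subsingleton Γ(pw F 0, U) := this
    exact 0
  | n + 1 => (secBiprod F (pw F n) U).trans
      (((LinearEquiv.refl _ _).prodCongr (secPw F U n)).trans (Fin.consLinearEquiv Γ(X, U) (fun _ => Γ(F, U))))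

theorem nonempty_iso_restrict {M N : X.Modules} (hM : Coh.IsQCoh M) (hN : Coh.IsQCoh N) {U : X.Opens}
    (hU : IsAffineOpen U) (e : Γ(M, U) ≃ₗ[Γ(X, U)] Γ(N, U)) : Nonempty (M.restrict U.ι ≅ N.restrict U.ι) := by
  obtain ⟨φ, hφ⟩ := CohqB.FinHom.exists_hom_restrict M N hU e.toLinearMap
  have : IsAffine U := hU
  have hb : ∀ P : X.Modules, Function.Bijective (P.presheaf.map (homOfLE (U.ι_image_le ⊤)).op) := by
    intro P
    have h1 : U.ι ''ᵁ ⊤ = U := by simp
    have : IsIso (homOfLE (U.ι_image_le ⊤)) := by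
      refine ⟨⟨homOfLE h1.ge, rfl, rfl⟩⟩
    have : IsIso (P.presheaf.map (homOfLE (U.ι_image_le ⊤)).op) := inferInstance
    exact ConcreteCategory.bijective_of_isIso _
  have hφb : Function.Bijective (φ.app ⊤) := by
    have h1 : (φ.app ⊤ : _ → _) ∘ (M.presheaf.map (homOfLE (U.ι_image_le ⊤)).op : Γ(M, U) → _) =
        (N.presheaf.map (homOfLE (U.ι_image_le ⊤)).op : Γ(N, U) → _) ∘ e := funext hφ
    have h2 : Function.Bijective ((φ.app ⊤ : _ → _) ∘
        (M.presheaf.map (homOfLE (U.ι_image_le ⊤)).op : Γ(M, U) → _)) := by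
      rw [h1]
      exact (hb N).comp e.bijective
    exact (Function.Bijective.of_comp_iff _ (hb M)).1 h2
  have := Desc.ModSec.isIso_of_bijective_top (PerfA.QCohSerre.isQCoh_restrict _ hM)
    (PerfA.QCohSerre.isQCoh_restrict _ hN) φ hφb
  exact ⟨asIso φ⟩

/-- the algebra: a base change to a free algebra is a power -/
theorem nonempty_equiv {A B M N N' : Type u} [CommRing A] [CommRing B] [AddCommGroup M] [Module A M]
    [AddCommGroup N] [Module B N] [AddCommGroup N'] [Module A N'] (φ : A →+* B) (f : M →+ N)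
    (hf : CohqA.BaseChangeMod.IsBC φ f) (d : ℕ)
    (b : letI := φ.toAlgebra; Module.Basis (Fin d) A B) (e : N' ≃+ N)
    (he : ∀ (r : A) (x : N'), e (r • x) = φ r • e x) : Nonempty ((Fin d → M) ≃ₗ[A] N') := by
  let _ : Algebra A B := φ.toAlgebra
  let _ : Module A N := Module.compHom N φ
  have : IsScalarTower A B N := ⟨fun a b c => by rw [Algebra.smul_def, mul_smul]; rfl⟩
  let f' : M →ₗ[A] N := { f with map_smul' := hf.map_smul }
  have h1 : IsBaseChange B f' := (CohqA.BaseChangeMod.isBC_iff_isBaseChange f').1 hf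
  let e1 : (Fin d → M) ≃ₗ[A] (Fin d →₀ M) := (Finsupp.linearEquivFunOnFinite A M (Fin d)).symm
  let e2 : (Fin d →₀ M) ≃ₗ[A] B ⊗[A] M := (TensorProduct.equivFinsuppOfBasisLeft b).symm
  let e3 : B ⊗[A] M ≃ₗ[A] N := h1.equiv.restrictScalars A
  let e4 : N ≃ₗ[A] N' := { e.symm with
    map_smul' := fun r x => by
      apply e.injective
      change e (e.symm (r • x)) = e (r • e.symm x)
      rw [he, e.apply_symm_apply, e.apply_symm_apply]
      rfl }
  exact ⟨e1.trans (e2.trans (e3.trans e4))⟩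

variable {E : Scheme.{u}} (φ : E ⟶ X)

theorem exists_local_iso [IsLocallyNoetherian X] [IsFinite φ] [Flat φ] {F : X.Modules}
    (hF : Coh.IsCoh F) (x : X) : ∃ U : X.Opens, x ∈ U ∧
      Nonempty ((pw F (φ.finrank x)).restrict U.ι ≅
        ((Scheme.Modules.pushforward φ).obj ((Scheme.Modules.pullback φ).obj F)).restrict U.ι) := by
  obtain ⟨U, hU, hxU, ⟨b⟩⟩ := FFBasis.exists_affine_basis φ x
  set d := φ.finrank x
  have hF1 : Coh.IsQCoh F := hF.1
  have hq1 : Coh.IsQCoh ((Scheme.Modules.pullback φ).obj F) := inferInstance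
  have hq2 : Coh.IsQCoh ((Scheme.Modules.pushforward φ).obj ((Scheme.Modules.pullback φ).obj F)) :=
    Sga67.CohBasic.isQCoh_push φ hq1
  have hV : IsAffineOpen (φ ⁻¹ᵁ U) := hU.preimage φ
  have hbc := CohqA.PullbackQCoh.isBC_pbSec φ F hU hV le_rfl
  rw [Scheme.Hom.appLE_eq_app] at hbc
  obtain ⟨e⟩ := nonempty_equiv (N' := Γ((Scheme.Modules.pushforward φ).obj
    ((Scheme.Modules.pullback φ).obj F), U)) _ _ hbc d b (AddEquiv.refl _) (fun r x => rfl)
  exact ⟨U, hxU, nonempty_iso_restrict (isCoh_pw hF d).1 hq2 hU ((secPw F U d).trans e)⟩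

end K279.PushPull
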